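import Cfsg.Agent.H966.K5.Base
import Cfsg.Agent.H47.PerfCent
import Cfsg.Agent.H514.OrdSpor
import Cfsg.Agent.H921.SporCo

/-!
# `k(B₀) = 5`, `p = 2`: the rows of `Ly`, `McL` (helper966)
-/

set_option autoImplicit false

open Cfsg

namespace Cfsg.Agent.H966.K5

open Cfsg.Agent.H668.Five

theorem row_ly {S : Type*} [Group S] [Finite S] (h : Spor.IsoLy S) : Row S := by
  refine Or.inl (good_of_perfect (fun z hz => Cfsg.Agent.H47.PerfCent.perf_ly h z hz) ?_)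
  obtain ⟨e⟩ := h
  exact Cfsg.Agent.H514.OC.Spor.eight_equiv e Cfsg.Agent.H514.OC.Spor.ly_eight

theorem row_mcl {S : Type*} [Group S] [Finite S] (h : Spor.IsoMcL S) : Row S := by
  refine Or.inl (good_of_perfect (fun z hz => Cfsg.Agent.H47.PerfCent.perf_mcl h z hz) ?_)
  obtain ⟨e⟩ := h
  obtain ⟨f, hf⟩ := Cfsg.Agent.H921.Spor.Co.exists_McL
  obtain ⟨g, hg⟩ := Cfsg.Agent.H514.OC.Spor.m22_eight
  exact Cfsg.Agent.H514.OC.Spor.eight_equiv e ⟨f g, by rw [orderOf_injective f hf, hg]⟩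

end Cfsg.Agent.H966.K5
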