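import Cfsg.Agent.H966.K5.Base
import Cfsg.Agent.H514.OrdSpor
import Cfsg.Agent.H921.SporCo

/-!
# `k(B₀) = 5`, `p = 2`: the rows of `M22`, `HS` (helper966)
-/

set_option autoImplicit false

open Cfsg

namespace Cfsg.Agent.H966.K5

open Cfsg.Agent.H668.Five

namespace M22

open Cfsg.Agent.KFacts.MM.El Cfsg.Agent.KFacts.MM.Cent Cfsg.Agent.H94.PG.Sp Cfsg.Agent.SporadicA.GolayPerm

/-- an involution -/
local notation "zN" => 984650895008759490611503713509263392
/-- an element of order 3 -/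
local notation "hN" => 966402363399683626236167374689086912
/-- an element of order 3 -/
local notation "aN" => 974224086244370834781869796873542336

theorem good [Finite Spor.M22] : Good Spor.M22 := by
  obtain ⟨z0, hz⟩ := mem_of_ok22 (P := zN) (by decide +kernel)
  obtain ⟨h0, hh⟩ := mem_of_ok22 (P := hN) (by decide +kernel)
  obtain ⟨a0, ha⟩ := mem_of_ok22 (P := aN) (by decide +kernel)
  have okn : okl [] = true := rfl
  have okc : ∀ {P : ℕ} {l : List ℕ}, isPerm P = true → okl l = true → okl (P :: l) = true := fun {P l} h1 h2 => by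
    unfold okl at *
    rw [List.all_cons, h1, h2]; rfl
  have z1 : pm zN ≠ 1 := by
    have := pr_ne (okc z0 okn) okn (by decide +kernel)
    rwa [pr_one, pr_nil] at this
  have z2 : pm zN ^ 2 = 1 := by
    have := pr_of_weq (okc z0 (okc z0 okn)) okn (by decide +kernel)
    rwa [pr_cons, pr_one, pr_nil, ← pow_two] at this
  have h3 : pm hN ^ 3 = 1 := by
    have := pr_of_weq (okc h0 (okc h0 (okc h0 okn))) okn (by decide +kernel)
    rwa [pr_cons, pr_cons, pr_one, pr_nil, ← mul_assoc, ← pow_two, ← pow_succ] at this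
  have a3 : pm aN ^ 3 = 1 := by
    have := pr_of_weq (okc a0 (okc a0 (okc a0 okn))) okn (by decide +kernel)
    rwa [pr_cons, pr_cons, pr_one, pr_nil, ← mul_assoc, ← pow_two, ← pow_succ] at this
  have hzc : pm hN * pm zN = pm zN * pm hN := by
    have := pr_of_weq (okc h0 (okc z0 okn)) (okc z0 (okc h0 okn)) (by decide +kernel)
    rwa [pr_cons, pr_one, pr_cons, pr_one] at this
  have hac : pm aN * pm zN = pm zN * pm aN := by
    have := pr_of_weq (okc a0 (okc z0 okn)) (okc z0 (okc a0 okn)) (by decide +kernel)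
    rwa [pr_cons, pr_one, pr_cons, pr_one] at this
  have hi : (pm hN)⁻¹ = pm hN * pm hN := by
    rw [inv_eq_iff_mul_eq_one, ← mul_assoc, ← pow_two, ← pow_succ]; exact h3
  have ai : (pm aN)⁻¹ = pm aN * pm aN := by
    rw [inv_eq_iff_mul_eq_one, ← mul_assoc, ← pow_two, ← pow_succ]; exact a3
  have hk : pm hN * pm aN * (pm hN)⁻¹ * (pm aN)⁻¹ = pr [hN, aN, hN, hN, aN, aN] := by
    rw [hi, ai, pr_cons, pr_cons, pr_cons, pr_cons, pr_cons, pr_one]
    simp only [mul_assoc]
  have hok : okl [hN, aN, hN, hN, aN, aN] = true := okc h0 (okc a0 (okc h0 (okc h0 (okc a0 (okc a0 okn)))))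
  have k1 : pr [hN, aN, hN, hN, aN, aN] ≠ 1 := by
    have := pr_ne hok okn (by decide +kernel)
    rwa [pr_nil] at this
  have k2 : pr [hN, aN, hN, hN, aN, aN] ^ 2 = 1 := by
    have := pr_of_weq (l := [hN, aN, hN, hN, aN, aN] ++ [hN, aN, hN, hN, aN, aN])
      (okc h0 (okc a0 (okc h0 (okc h0 (okc a0 (okc a0 hok)))))) okn (by decide +kernel)
    rwa [pr_append, pr_nil, ← pow_two] at this
  obtain ⟨w, hw⟩ := Cfsg.Agent.H514.OC.Spor.m22_eight
  refine Or.inr ⟨⟨pm zN, hz⟩, w, ?_, nn_of_comm ⟨pm hN, hh⟩ ⟨pm aN, ha⟩ ?_ ?_ ?_ (k := 0) ?_, hw⟩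
  · rw [Subgroup.orderOf_mk]
    exact orderOf_eq_prime z2 z1
  · exact Subtype.ext hzc
  · exact Subtype.ext hac
  · rw [Subgroup.orderOf_mk]
    exact Odd.of_dvd_nat (by decide) (orderOf_dvd_of_pow_eq_one h3)
  · rw [← Subgroup.orderOf_coe]
    show orderOf (pm hN * pm aN * (pm hN)⁻¹ * (pm aN)⁻¹) = 2
    rw [hk]
    exact orderOf_eq_prime k2 k1

end M22

theorem row_m22 {S : Type*} [Group S] [Finite S] (h : Spor.IsoM22 S) : Row S := by
  obtain ⟨e⟩ := h
  have : Finite Spor.M22 := Finite.of_equiv S e.toEquiv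
  exact Or.inl (M22.good.map e.symm.toMonoidHom e.symm.injective)

theorem row_hs {S : Type*} [Group S] [Finite S] (h : Spor.IsoHS S) : Row S := by
  obtain ⟨e⟩ := h
  have : Finite Spor.HS := Finite.of_equiv S e.toEquiv
  obtain ⟨f, hf⟩ := Cfsg.Agent.H921.Spor.Co.exists_HS
  have : Finite Spor.M22 := Finite.of_injective f hf
  exact Or.inl (M22.good.map (e.symm.toMonoidHom.comp f) (e.symm.injective.comp hf))

end Cfsg.Agent.H966.K5
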